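import Groth.Agent.H44Univ.FrobIter
import Mathlib.AlgebraicGeometry.FunctionField
import Mathlib.AlgebraicGeometry.Morphisms.Finite
import Mathlib.AlgebraicGeometry.Morphisms.UniversallyInjective
import Mathlib.FieldTheory.PurelyInseparable.Exponent
import Groth.Agent.P1Norm.Sch

/-! # Descending the iterated Frobenius through a universal homeomorphism onto a normal scheme -/

universe u

open CategoryTheory CategoryTheory.Limits AlgebraicGeometry

set_option linter.style.haveILetI false
set_option backward.isDefEq.respectTransparency false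

namespace Groth.Agent.H44Univ

variable (p : ℕ) [Fact p.Prime]

section Alg

variable {A B : Type*} [CommRing A] [CommRing B] {K L : Type*} [Field K] [Field L]

theorem exists_pow_descend [IsDomain A] [IsIntegrallyClosed A] [Algebra A K] [IsFractionRing A K]
    [CharP L p] (σ : A →+* B) (hσ : σ.IsIntegral) (φ : K →+* L) (ι : B →+* L) (hι : Function.Injective ι)
    (hcomm : ∀ a, ι (σ a) = φ (algebraMap A K a)) (n : ℕ) (hn : ∀ z : L, z ^ p ^ n ∈ φ.range) :
    ∃ ψ : B →+* A, ∀ b, σ (ψ b) = b ^ p ^ n := by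
  have key : ∀ b : B, ∃ a, σ a = b ^ p ^ n := fun b => by
    obtain ⟨κ, hκ⟩ := hn (ι b)
    obtain ⟨P, hP, hPb⟩ := hσ (b ^ p ^ n)
    have hκ' : IsIntegral A κ := ⟨P, hP, φ.injective <| by
      rw [Polynomial.hom_eval₂, map_zero, hκ, ← map_pow, ← map_zero ι, ← hPb, Polynomial.hom_eval₂]
      exact Polynomial.eval₂_congr (RingHom.ext fun a => (hcomm a).symm) rfl rfl⟩
    obtain ⟨a, rfl⟩ := IsIntegrallyClosed.isIntegral_iff.mp hκ'
    exact ⟨a, hι (by rw [hcomm, hκ, map_pow])⟩
  choose ψ hψ using key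
  have inj : Function.Injective σ := fun a a' h => IsFractionRing.injective A K <| φ.injective <| by
    rw [← hcomm, ← hcomm, h]
  haveI : CharP B p := by
    constructor
    intro m
    rw [← CharP.cast_eq_zero_iff L p m]
    constructor
    · intro h; rw [← map_natCast ι, h, map_zero]
    · intro h; exact hι (by rw [map_natCast, h, map_zero])
  exact ⟨{ toFun := ψ
           map_one' := inj (by rw [hψ, map_one, one_pow])
           map_mul' := fun b c => inj (by rw [map_mul, hψ, hψ, hψ, mul_pow])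
           map_zero' := inj (by rw [hψ, map_zero, zero_pow (pow_ne_zero _ (Fact.out : p.Prime).ne_zero)])
           map_add' := fun b c => inj (by rw [map_add, hψ, hψ, hψ, add_pow_char_pow]) }, hψ⟩

/-- A purely inseparable extension of degree `p ^ n` has all `p ^ n`-th powers in the base. -/
theorem pow_mem_of_finrank [Algebra K L] [IsPurelyInseparable K L] [FiniteDimensional K L] [ExpChar K p]
    (n : ℕ) (h : Module.finrank K L = p ^ n) (z : L) : z ^ p ^ n ∈ (algebraMap K L).range := by
  have h1 := minpoly.natDegree_le (A := K) z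
  rw [IsPurelyInseparable.minpoly_natDegree_eq' K p z, h] at h1
  have h2 := (Nat.pow_le_pow_iff_right (Fact.out : p.Prime).one_lt).mp h1
  obtain ⟨c, hc⟩ := Nat.exists_eq_add_of_le h2
  rw [hc, pow_add, pow_mul]
  exact Subring.pow_mem _ (IsPurelyInseparable.elemExponent_def' K p z) _

end Alg

variable {X Y : Scheme.{u}} [IsIntegral X] [IsIntegral Y] (u : X ⟶ Y) (e : u (genericPoint X) = genericPoint Y)

/-- The map of function fields. -/
noncomputable abbrev ffMap : Y.functionField →+* X.functionField :=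
  (Y.presheaf.stalkSpecializes (specializes_of_eq e) ≫ u.stalkMap (genericPoint X)).hom

theorem ffMap_germ {V : Y.Opens} (hV : genericPoint Y ∈ V) (a : Γ(Y, V)) :
    ffMap u e (Y.presheaf.germ V (genericPoint Y) hV a) =
      X.presheaf.germ (u ⁻¹ᵁ V) (genericPoint X) (show u (genericPoint X) ∈ V from e ▸ hV) (u.app V a) := by
  show (u.stalkMap (genericPoint X)) ((Y.presheaf.stalkSpecializes (specializes_of_eq e))
    (Y.presheaf.germ V (genericPoint Y) hV a)) = _
  rw [← CommRingCat.comp_apply (Y.presheaf.germ V _ hV), TopCat.Presheaf.germ_stalkSpecializes]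
  exact Scheme.Hom.germ_stalkMap_apply u V _ _ a

theorem isPurelyInseparable_ffMap [FrobSch.IsCharP Y p] (hu : UniversallyInjective u) :
    letI := (ffMap u e).toAlgebra
    IsPurelyInseparable Y.functionField X.functionField := by
  letI := (ffMap u e).toAlgebra
  haveI : CharP Y.functionField p := (CharP.charP_iff_prime_eq_zero Fact.out).2 (by
    rw [← map_natCast (Y.presheaf.germ ⊤ (genericPoint Y) trivial).hom, FrobSch.IsCharP.natCast_eq_zero,
      map_zero])
  haveI : ExpChar Y.functionField p := ExpChar.prime Fact.out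
  refine (isPurelyInseparable_iff_pow_mem _ p).2 fun z => ?_
  have hpi := (((tfae_universallyInjective u).out 0 2 rfl rfl).mp hu).2 (genericPoint X)
  letI := (u.residueFieldMap (genericPoint X)).hom.toAlgebra
  haveI : IsPurelyInseparable (Y.residueField (u (genericPoint X))) (X.residueField (genericPoint X)) := hpi
  haveI := FrobSchLib.expChar_residueField p (X := Y) (u (genericPoint X))
  obtain ⟨n, w, hw⟩ := (isPurelyInseparable_iff_pow_mem _ p).1 hpi (X.residue _ z)
  obtain ⟨a, rfl⟩ := Y.residue_surjective _ w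
  obtain ⟨V, hV, s, rfl⟩ := Y.presheaf.exists_germ_eq (x := u (genericPoint X)) a
  refine ⟨n, Y.presheaf.germ V _ (e ▸ hV) s, ?_⟩
  have hinj : Function.Injective (X.residue (genericPoint X)).hom :=
    RingHom.injective (R := X.functionField) _
  apply hinj
  rw [map_pow, ← hw]
  show X.residue _ (ffMap u e _) = u.residueFieldMap _ (Y.residue _ _)
  rw [ffMap_germ, ← CommRingCat.comp_apply (Y.residue _), Scheme.residue_residueFieldMap,
    CommRingCat.comp_apply, Scheme.Hom.germ_stalkMap_apply]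

theorem finiteDimensional_ffMap [IsFinite u] :
    letI := (ffMap u e).toAlgebra
    FiniteDimensional Y.functionField X.functionField := by
  letI := (ffMap u e).toAlgebra
  obtain ⟨V, hV, hηV, -⟩ := exists_isAffineOpen_mem_and_subset (x := genericPoint Y) (U := ⊤) trivial
  have hξU : genericPoint X ∈ u ⁻¹ᵁ V := show u (genericPoint X) ∈ V from e ▸ hηV
  haveI : Nonempty (u ⁻¹ᵁ V : X.Opens).toScheme := ⟨⟨_, hξU⟩⟩
  haveI : IsFractionRing Γ(X, u ⁻¹ᵁ V) X.functionField :=
    functionField_isFractionRing_of_isAffineOpen X _ (hV.preimage u)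
  have hfin : (u.app V).hom.Finite := IsFinite.finite_app u V hV
  letI := (u.app V).hom.toAlgebra
  haveI : Module.Finite Γ(Y, V) Γ(X, u ⁻¹ᵁ V) := hfin
  obtain ⟨s, hs⟩ := Module.Finite.fg_top (R := Γ(Y, V)) (M := Γ(X, u ⁻¹ᵁ V))
  set ι := algebraMap Γ(X, u ⁻¹ᵁ V) X.functionField with hι
  have hcomm : ∀ a : Γ(Y, V), ι (u.app V a) = ffMap u e (Y.presheaf.germ V _ hηV a) :=
    fun a => (ffMap_germ u e hηV a).symm
  have hint : ∀ x ∈ ι '' (s : Set Γ(X, u ⁻¹ᵁ V)), IsIntegral Y.functionField x := by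
    rintro _ ⟨b, -, rfl⟩
    obtain ⟨P, hP, hPb⟩ := (Algebra.IsIntegral.of_finite Γ(Y, V) Γ(X, u ⁻¹ᵁ V)).isIntegral b
    refine ⟨P.map (Y.presheaf.germ V _ hηV).hom, hP.map _, ?_⟩
    rw [Polynomial.eval₂_map, ← map_zero ι, ← hPb, Polynomial.hom_eval₂]
    exact Polynomial.eval₂_congr (RingHom.ext fun a => (hcomm a).symm) rfl rfl
  haveI : Finite ↥(ι '' (s : Set Γ(X, u ⁻¹ᵁ V))) := (s.finite_toSet.image _).to_subtype
  haveI hfd := IntermediateField.finiteDimensional_adjoin hint
  have hmem : ∀ b, ι b ∈ IntermediateField.adjoin Y.functionField (ι '' (s : Set Γ(X, u ⁻¹ᵁ V))) := by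
    intro b
    have hb : b ∈ Submodule.span Γ(Y, V) (s : Set Γ(X, u ⁻¹ᵁ V)) := hs ▸ Submodule.mem_top
    induction hb using Submodule.span_induction with
    | mem x hx => exact IntermediateField.subset_adjoin _ _ ⟨x, hx, rfl⟩
    | zero => rw [map_zero]; exact zero_mem _
    | add x y _ _ hx hy => rw [map_add]; exact add_mem hx hy
    | smul a x _ hx =>
      rw [Algebra.smul_def, map_mul]
      refine mul_mem ?_ hx
      show ι (u.app V a) ∈ _
      rw [hcomm]
      exact IntermediateField.algebraMap_mem _ _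
  have htop : IntermediateField.adjoin Y.functionField (ι '' (s : Set Γ(X, u ⁻¹ᵁ V))) = ⊤ := by
    refine eq_top_iff.2 fun z _ => ?_
    obtain ⟨b, c, -, rfl⟩ := IsFractionRing.div_surjective Γ(X, u ⁻¹ᵁ V) z
    exact div_mem (hmem b) (hmem c)
  rw [htop] at hfd
  exact IntermediateField.topEquiv.toLinearEquiv.finiteDimensional

variable [FrobSch.IsCharP X p]

/-- The local factorisation of the iterated Frobenius. -/
theorem exists_descend_affine [IsIntegralHom u] (hY : Pi1.IsNormalScheme Y) (n : ℕ)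
    (hn : ∀ z : X.functionField, z ^ p ^ n ∈ (ffMap u e).range)
    {V : Y.Opens} (hV : IsAffineOpen V) (hηV : genericPoint Y ∈ V) :
    ∃ w : (V : Scheme.{u}) ⟶ X, (u ∣_ V) ≫ w = (u ⁻¹ᵁ V).ι ≫ Fr p n X := by
  haveI : Nonempty V.toScheme := ⟨⟨_, hηV⟩⟩
  have hξU : genericPoint X ∈ u ⁻¹ᵁ V := show u (genericPoint X) ∈ V from e ▸ hηV
  haveI : Nonempty (u ⁻¹ᵁ V : X.Opens).toScheme := ⟨⟨_, hξU⟩⟩
  have hU : IsAffineOpen (u ⁻¹ᵁ V) := hV.preimage u
  haveI : IsFractionRing Γ(Y, V) Y.functionField := functionField_isFractionRing_of_isAffineOpen Y _ hV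
  haveI : IsIntegrallyClosed Γ(Y, V) := P1Norm.isIntegrallyClosed_sections hY hV
  haveI : CharP X.functionField p := (CharP.charP_iff_prime_eq_zero Fact.out).2 (by
    rw [← map_natCast (X.presheaf.germ ⊤ (genericPoint X) trivial).hom, FrobSch.IsCharP.natCast_eq_zero,
      map_zero])
  obtain ⟨ψ, hψ⟩ := exists_pow_descend p (u.app V).hom (IsIntegralHom.isIntegral_app u V hV) (ffMap u e)
    (algebraMap Γ(X, u ⁻¹ᵁ V) X.functionField) (X.germToFunctionField_injective _)
    (fun a => (ffMap_germ u e hηV a).symm) n hn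
  obtain ⟨θ, hθ, hFr⟩ := fromSpec_Fr p n hU
  refine ⟨hV.isoSpec.hom ≫ Spec.map (CommRingCat.ofHom ψ) ≫ hU.fromSpec, ?_⟩
  rw [← cancel_epi hU.isoSpec.inv]
  rw [IsAffineOpen.isoSpec_inv_ι_assoc, hFr]
  have h1 : hU.isoSpec.inv ≫ (u ∣_ V) ≫ hV.isoSpec.hom = Spec.map (u.app V) := by
    rw [← cancel_mono hV.isoSpec.inv]
    simp only [Category.assoc, Iso.hom_inv_id, Category.comp_id]
    rw [← cancel_mono V.ι]
    simp only [Category.assoc, morphismRestrict_ι, IsAffineOpen.isoSpec_inv_ι]
    rw [IsAffineOpen.isoSpec_inv_ι_assoc, Scheme.Hom.app_eq_appLE]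
    exact (IsAffineOpen.SpecMap_appLE_fromSpec u hV hU le_rfl).symm
  rw [reassoc_of% h1, ← Spec.map_comp_assoc]
  congr 2
  ext b
  exact (hψ b).trans (hθ b).symm

end Groth.Agent.H44Univ
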