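import Groth.Prelude.Def_Frob
import Groth.Agent.FrobSchLib.Basic
import Groth.Agent.MorLib.UnivHomeo
import Mathlib.AlgebraicGeometry.Morphisms.Separated

/-! # Iterates of the absolute Frobenius -/

universe u

open CategoryTheory CategoryTheory.Limits AlgebraicGeometry

namespace Groth.Agent.H44Univ

variable (p : ℕ) [Fact p.Prime]

/-- The `n`-th iterate of the absolute Frobenius, in the form used by the statements. -/
noncomputable abbrev Fr (n : ℕ) (X : Scheme.{u}) [FrobSch.IsCharP X p] : X ⟶ X :=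
  (fun g : X ⟶ X => g ≫ FrobSch.frob X p)^[n] (𝟙 X)

theorem Fr_zero (X : Scheme.{u}) [FrobSch.IsCharP X p] : Fr p 0 X = 𝟙 X := rfl

theorem Fr_succ (n : ℕ) (X : Scheme.{u}) [FrobSch.IsCharP X p] :
    Fr p (n + 1) X = Fr p n X ≫ FrobSch.frob X p :=
  Function.iterate_succ_apply' _ _ _

@[reassoc]
theorem Fr_comp (n : ℕ) {X Y : Scheme.{u}} [FrobSch.IsCharP X p] [FrobSch.IsCharP Y p] (f : X ⟶ Y) :
    Fr p n X ≫ f = f ≫ Fr p n Y := by
  induction n with
  | zero => rw [Fr_zero, Fr_zero, Category.id_comp, Category.comp_id]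
  | succ n ih => rw [Fr_succ, Fr_succ, Category.assoc, FrobSch.frob_comp p f, reassoc_of% ih]

theorem isUnivHomeo_comp {X Y Z : Scheme.{u}} (f : X ⟶ Y) (g : Y ⟶ Z)
    (hf : FlatMor.IsUnivHomeo f) (hg : FlatMor.IsUnivHomeo g) : FlatMor.IsUnivHomeo (f ≫ g) := by
  have := MorLib.universallyClosed_of_isUnivHomeo hf
  have := MorLib.universallyClosed_of_isUnivHomeo hg
  have := MorLib.universallyInjective_of_isUnivHomeo hf
  have := MorLib.universallyInjective_of_isUnivHomeo hg
  have := MorLib.surjective_of_isUnivHomeo hf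
  have := MorLib.surjective_of_isUnivHomeo hg
  haveI : UniversallyInjective (f ≫ g) := MorphismProperty.comp_mem _ f g ‹_› ‹_›
  exact MorLib.isUnivHomeo_of_universallyClosed _

theorem isUnivHomeo_Fr (n : ℕ) (X : Scheme.{u}) [FrobSch.IsCharP X p] :
    FlatMor.IsUnivHomeo (Fr p n X) := by
  induction n with
  | zero => rw [Fr_zero]; exact MorLib.isUnivHomeo_of_universallyClosed _
  | succ n ih =>
    rw [Fr_succ]
    exact isUnivHomeo_comp _ _ ih (FrobSchLib.isUnivHomeo_frob p X)

/-- On an affine open the iterate of the absolute Frobenius is the `p ^ n`-th power map. -/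
theorem fromSpec_Fr (n : ℕ) {X : Scheme.{u}} [FrobSch.IsCharP X p] {U : X.Opens} (hU : IsAffineOpen U) :
    ∃ θ : Γ(X, U) →+* Γ(X, U), (∀ b, θ b = b ^ p ^ n) ∧
      hU.fromSpec ≫ Fr p n X = Spec.map (CommRingCat.ofHom θ) ≫ hU.fromSpec := by
  induction n with
  | zero =>
    refine ⟨RingHom.id _, fun b => by simp, ?_⟩
    rw [Fr_zero, Category.comp_id]
    show _ = Spec.map (𝟙 _) ≫ _
    rw [Spec.map_id, Category.id_comp]
  | succ n ih =>
    obtain ⟨θ, hθ, e⟩ := ih
    refine ⟨θ.comp (FrobSch.powHom p _ (FrobSch.natCast_eq_zero_app X p U)), fun b => ?_, ?_⟩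
    · rw [RingHom.comp_apply, hθ, FrobSch.powHom_apply, ← pow_mul, pow_succ']
    · rw [Fr_succ, reassoc_of% e, CommRingCat.ofHom_comp, Spec.map_comp, Category.assoc]
      congr 1
      have := IsAffineOpen.SpecMap_appLE_fromSpec (FrobSch.frob X p) hU hU le_rfl
      rw [← this]
      congr 1
      exact congrArg Spec.map ((FrobSch.frob X p).app_eq_appLE (U := U)).symm

end Groth.Agent.H44Univ
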